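import Cfsg.Agent.Lib.MinStem.ExcLam

/-!
# The Levi section for `(n, q) = (3, 4)`: Steinberg relations by the extended torus (module L4)

`SL₃(4)` has a big multiplier, but in `Ω⁻₈(4)` the torus is bigger: `M_j(dd β)`, `N β = w` acts on `e_j` by `w`. Any `q ≥ 3` works, `n = 3` is all that is needed.

Setting `π = iOm ∘ σ : Γ → GL(V)`, central kernel. `M_j : SL₂(K) →* Γ` the section over `blk C j` (`SpStem.exists_section`, S2117: `K = F₁₆`, `sl2_perfect`), for each `j`. `T̃_ij(c)` any lift of `levM (TT h c)`.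
Facts: (a) `M_k g` commutes with every lift of `levM (TT h c)`, `h : i ≠ j`, `k ∉ {i, j}` (`SpStem.commute_lift`, target: `levM_blk`, `Mu`).
(b) `β ∈ Kˣ`, `w = nm β ≠ 1` (`w` any element of `Fˣ`, `w ≠ 1`; the norm is onto, or: `β` any element with `nm β ≠ 1`, exists since else all `β` are roots of `X^(q+1) - 1`). `M_i (dd β)` conjugates a lift of `T_ij(c)` to a lift of `T_ij(w c)`, and `M_j (dd β)` to a lift of `T_ij(w⁻¹ c)`.
Write `χ`-trick: if `g ↦ ⁅g̃, h̃⁆` is a homomorphism to the kernel on the centraliser of `π h̃` and `g = ⁅d, g'⁆` with `d, g'` in the centraliser, then `⁅g̃, h̃⁆ = 1`.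
Commutations (lifts of):
 `(ij, ik)`: `d = M_j (dd β)` fixes `T_ik(u)` by (a) and scales `T_ij`: `T_ij(s) = ⁅d, T_ij(s/(w⁻¹-1))⁆` in the target.
 `(ij, kj)`: `d = M_i (dd β)`, likewise.
 `(ij, ij)`: `T_ij(t) = ⁅T_ik(t), T_kj(1)⁆`, `OddStem.comm_of_comm` (now `Rel.comm_of_comm`): both commutators with a lift of `T_ij(u)` are central.
Define `D(c, d) = ⁅T̃_ij(c), T̃_jk(d)⁆` for `(i, j, k)` distinct: independent of the lifts, over `T_ik(c d)`. `M_j(dd β)` conjugates it to `D(c w⁻¹, w d)` and it commutes with `D(c,d)` by (a): `D(c w⁻¹, w d) = D(c, d)`. Since the norm is onto `Fˣ` (or: `nm` on `Kˣ` is onto; all `w ∈ Fˣ` occur): `D(c, d) = D(c d, 1)` (for `d ≠ 0`; `D(0, d) = D(c, 0) = 1`).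
`x i k t := D(t, 1)` with `j` the third index. `Rel`: `add`: `⁅ab, y⁆ = a ⁅b,y⁆ a⁻¹ ⁅a,y⁆`, and `(ij, ik)`, `(ik, ik)`. `comm`: the cases above (for `n = 3`: `j ≠ k`, `i ≠ l` means same row or same column or equal). `comm2`: `⁅x i j t, x j l u⁆ = D(t, u) = x i l (t u)`.
`S2401.result`/`StSLn` gives `lam` with `lam (transvection) = x`; `π (lam l) = levM l` by `closure_transvections_eq_top`.
-/

set_option autoImplicit false

namespace Cfsg.Agent.Lib.MinStem

open Matrix Cfsg Subgroup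

universe u

variable {n : ℕ} {F : Type u} {K : Type u} [Field F] [Fintype F] [Field K] [Fintype K] [Algebra F K] [QCj K] [QF F K]
  {a b : F} {Γ : Type u} [Group Γ] [Finite Γ] {σ : Γ →* Omega F (quadFormMinus n F a b)}

theorem exists_lam_34 (C : QC F K a b) (hn : n = 3) (hF : Fintype.card F = 4) (hs : Function.Surjective σ)
    (hcen : σ.ker ≤ center Γ) : ∃ lam : SpecialLinearGroup (Fin n) F →* Γ, ∀ l, iOm (σ (lam l)) = levM l := by
  have h2 : (2 : F) = 0 := by
    have h := Nat.cast_card_eq_zero F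
    rw [hF] at h
    have h4 : (2 : F) * 2 = 0 := by
      have e : ((4 : ℕ) : F) = 2 * 2 := by
        norm_num
      rw [← e]
      exact h
    exact mul_self_eq_zero.1 h4
  exact ExcLam.exists_lam_char2 C h2 (by omega) hs hcen

end Cfsg.Agent.Lib.MinStem
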